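import Mathlib
import Cfsg.Agent.Lib.TwoGrp.ClassTwo
import Cfsg.Agent.Lib.PGroup.Critical
import Cfsg.Agent.Lib.PGroup.TwoCyclic

/-!
Groups of exponent four with exactly three involutions, all central.
-/

set_option autoImplicit false

namespace H13.TG

open Subgroup H5 Cfsg

variable {K : Type*} [Group K] [Finite K]

theorem ncard_modEq {r : ℕ} [Fact r.Prime] {α : MulAut K} (hα : α ^ r = 1) (S : Set K)
    (hS : ∀ x ∈ S, α x ∈ S) : S.ncard ≡ (S ∩ fixedSub α).ncard [MOD r] := by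
  classical
  haveI := Fintype.ofFinite K
  let f : Function.End S := fun x => ⟨α x, hS x x.2⟩
  have hf : ∀ (n : ℕ) (x : S), ((f ^ n) x : K) = (α ^ n) x := by
    intro n
    induction n with
    | zero => intro x; rfl
    | succ n ih => intro x; rw [pow_succ', pow_succ', MulAut.mul_apply, ← ih]; rfl
  have := Equiv.Perm.card_fixedPoints_modEq (f := f) (p := r) (n := 1) (by
    funext x
    apply Subtype.ext
    rw [hf, pow_one, hα]; rfl)
  rw [← Nat.card_eq_fintype_card, ← Nat.card_eq_fintype_card] at this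
  have e : Function.fixedPoints f ≃ (S ∩ fixedSub α : Set K) :=
    { toFun := fun x => ⟨x.1, x.1.2, congrArg Subtype.val x.2⟩
      invFun := fun x => ⟨⟨x.1, x.2.1⟩, Subtype.ext x.2.2⟩
      left_inv := fun _ => rfl
      right_inv := fun _ => rfl }
  rwa [Nat.card_congr e] at this

omit [Finite K] in
theorem card_dvd_ncard (W : Subgroup K) (S : Set K) (hS : ∀ x ∈ S, ∀ w ∈ W, x * w ∈ S) :
    Nat.card W ∣ S.ncard := by
  have h : (QuotientGroup.mk ⁻¹' (QuotientGroup.mk '' S : Set (K ⧸ W)) : Set K) = S := by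
    ext x
    refine ⟨?_, fun hx => ⟨x, hx, rfl⟩⟩
    rintro ⟨y, hy, h⟩
    simpa using hS y hy _ (QuotientGroup.eq.1 h)
  have := Nat.card_congr (QuotientGroup.preimageMkEquivSubgroupProdSet W (QuotientGroup.mk '' S))
  rw [h, Nat.card_prod] at this
  exact Dvd.intro _ this.symm

theorem arith0 {a x : ℕ} (h1 : x ≤ 4) (h2 : 4 ∣ x) (h3 : 4 ∣ a) (h4 : a % 7 = x % 7) (h5 : a ≠ 0)
    (h6 : a ≠ 4) : 28 ≤ a := by
  obtain rfl | rfl : x = 0 ∨ x = 4 := by omega
  all_goals omega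

theorem arith1 {a b c x y z : ℕ} (s1 : 2 ^ (2 + 3) = 4 + a + b + c) (s2 : 2 ^ 2 = 4 + x + y + z)
    (m1 : a % 7 = x % 7) (m2 : b % 7 = y % 7) (e1 : 4 ∣ a) (e2 : 4 ∣ b) (n1 : a ≠ 0) (n2 : b ≠ 0) :
    False := by
  obtain rfl : x = 0 := by omega
  obtain rfl : y = 0 := by omega
  have : 28 ≤ a := by omega
  have : 28 ≤ b := by omega
  omega

theorem arith2 {a b c x y z : ℕ} (s1 : 2 ^ (3 + 3) = 4 + a + b + c) (s2 : 2 ^ 3 = 4 + x + y + z)
    (m1 : a % 7 = x % 7) (m2 : b % 7 = y % 7) (m3 : c % 7 = z % 7) (e1 : 4 ∣ a) (e2 : 4 ∣ b)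
    (e3 : 4 ∣ c) (f1 : 4 ∣ x) (f2 : 4 ∣ y) (f3 : 4 ∣ z) (n1 : a ≠ 0) (n2 : b ≠ 0) (n3 : c ≠ 0)
    (g1 : a ≠ 4) (g2 : b ≠ 4) (g3 : c ≠ 4) : False := by
  have h1 := arith0 (show x ≤ 4 by clear * - s2; omega) f1 e1 m1 n1 g1
  have h2 := arith0 (show y ≤ 4 by clear * - s2; omega) f2 e2 m2 n2 g2
  have h3 := arith0 (show z ≤ 4 by clear * - s2; omega) f3 e3 m3 n3 g3
  clear * - s1 h1 h2 h3
  omega

theorem arith3 {a b c x y z : ℕ} (s1 : 64 = 4 + a + b + c)
    (m1 : a % 3 = x % 3) (m2 : b % 3 = y % 3) (m3 : c % 3 = z % 3) (e1 : 20 ∣ a) (e2 : 20 ∣ b)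
    (e3 : 20 ∣ c) (f1 : 4 ∣ x) (f2 : 4 ∣ y) (f3 : 4 ∣ z) (n1 : a ≠ 0) (n2 : b ≠ 0) (n3 : c ≠ 0) :
    24 ≤ x + y + z := by
  obtain rfl : a = 20 := by omega
  obtain rfl : b = 20 := by omega
  obtain rfl : c = 20 := by omega
  have : 8 ≤ x := by omega
  have : 8 ≤ y := by omega
  have : 8 ≤ z := by omega
  omega

/-- Exponent four, and the solutions of `x * x = 1` form a central subgroup of order four. -/
structure C3 (W : Subgroup K) : Prop where
  mem : ∀ x, x ∈ W ↔ x * x = 1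
  sq : ∀ x, x * x ∈ W
  cent : W ≤ center K
  card : Nat.card W = 4

namespace C3

variable {W : Subgroup K} (h : C3 W)
include h

omit [Finite K] in
theorem isPGroup : IsPGroup 2 K := fun x => ⟨2, by
  rw [show 2 ^ 2 = 2 * 2 from rfl, pow_mul, pow_two, pow_two]; exact (h.mem _).1 (h.sq x)⟩

omit [Finite K] in
theorem sub {M : Subgroup K} (hM : W ≤ M) : C3 (W.subgroupOf M) :=
  ⟨fun x => (h.mem x).trans ⟨fun e => Subtype.ext e, fun e => congrArg Subtype.val e⟩, fun x => h.sq x,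
    fun x hx => mem_center_iff.2 fun y => Subtype.ext (mem_center_iff.1 (h.cent hx) y),
    by rw [Nat.card_congr (subgroupOfEquivOfLe hM).toEquiv, h.card]⟩

theorem card_le : Nat.card K ≤ 64 := by
  have := index_le_sq_of_anisotropic le_rfl (fun e he => (h.mem e).1 he) h.cent h.sq
    fun x hx => (h.mem x).2 hx
  rw [← W.card_mul_index, h.card] at *
  omega

theorem card_le_of_nonsq {w : K} (hw : w ∈ W) (hw1 : w ≠ 1) (hn : ∀ x, x * x ≠ w) :
    Nat.card K ≤ 16 := by
  have hw2 := (h.mem w).1 hw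
  have hZ : zpowers w ≤ W := zpowers_le.2 hw
  haveI : (zpowers w).Normal := H83.normal_of_le_center (hZ.trans h.cent)
  have ho : Nat.card (zpowers w) = 2 := by
    rw [Nat.card_zpowers, orderOf_eq_prime (by rw [pow_two, hw2]) hw1]
  let π := QuotientGroup.mk' (zpowers w)
  have hπ : Function.Surjective π := QuotientGroup.mk'_surjective _
  have hi : (W.map π).index = W.index := index_map_eq _ hπ (by rwa [QuotientGroup.ker_mk'])
  have h1 := (W.map π).card_mul_index
  have h2 := W.card_mul_index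
  have h3 := (zpowers w).card_mul_index
  rw [ho, index_eq_card] at h3
  rw [hi] at h1
  rw [h.card] at h2
  have hpos : 0 < W.index := Nat.pos_of_ne_zero index_ne_zero_of_finite
  have h4 : Nat.card (W.map π) = 2 := by
    apply Nat.eq_of_mul_eq_mul_right hpos
    omega
  have := index_le_sq_of_anisotropic (G := K ⧸ zpowers w) (F := W.map π) le_rfl (by
      rintro _ ⟨e, he, rfl⟩; rw [← map_mul, (h.mem e).1 he, map_one]) (by
      rintro _ ⟨e, he, rfl⟩
      rw [mem_center_iff]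
      intro g
      obtain ⟨g, rfl⟩ := hπ g
      rw [← map_mul, ← map_mul, mem_center_iff.1 (h.cent he) g]) (by
      intro x
      obtain ⟨x, rfl⟩ := hπ x
      exact ⟨x * x, h.sq x, map_mul π x x⟩) (by
      intro x hx
      obtain ⟨x, rfl⟩ := hπ x
      obtain ⟨k, hk⟩ := (QuotientGroup.eq_one_iff (x * x)).1 hx
      rcases H83.zpow_eq_one_or_self hw2 k with h' | h'
      · exact ⟨x, (h.mem x).2 (hk.symm.trans h'.2), rfl⟩
      · exact absurd (hk.symm.trans h'.2) (hn x))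
  rw [hi, h4] at this
  omega

omit [Finite K] in
theorem sq_mul {x w : K} (hw : w ∈ W) : x * w * (x * w) = x * x := by
  rw [mul_assoc, ← mul_assoc w, ← mem_center_iff.1 (h.cent hw) x, mul_assoc, (h.mem w).1 hw, mul_one]

omit [Finite K] in
theorem four_dvd {C : Subgroup K} (hC : W ≤ C) (w : K) : 4 ∣ ({x | x * x = w} ∩ C : Set K).ncard := by
  rw [← h.card]
  exact card_dvd_ncard W _ fun x hx u hu => ⟨(h.sq_mul hu).trans hx.1, mul_mem hx.2 (hC hu)⟩

theorem ncard_ne_zero (hK : 16 < Nat.card K) {w : K} (hw : w ∈ W) (hw1 : w ≠ 1) :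
    ({x | x * x = w} : Set K).ncard ≠ 0 := by
  intro h0
  rw [Set.ncard_eq_zero] at h0
  have := h.card_le_of_nonsq hw hw1 fun x hx => (Set.eq_empty_iff_forall_notMem.1 h0 x hx)
  omega

theorem ncard_ne_four (hK : Nat.card K = 64) {w : K} (hw : w ∈ W) (hw1 : w ≠ 1) :
    ({x | x * x = w} : Set K).ncard ≠ 4 := by
  intro h4
  obtain ⟨y, hy⟩ : ({x | x * x = w} : Set K).Nonempty := Set.nonempty_of_ncard_ne_zero (by omega)
  have hyW : y ∉ W := fun h' => hw1 (hy.symm.trans ((h.mem y).1 h'))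
  have hsq : ∀ x : K, x ^ 2 ∈ W := fun x => by rw [pow_two]; exact h.sq x
  obtain ⟨M, hWM, hi, hyM⟩ := exists_index_eq_not_mem (p := 2) (N := W)
    ((commutator_le_frattini h.isPGroup).trans (by
      rw [frattini_eq_closure_sq h.isPGroup, closure_le]
      rintro _ ⟨x, rfl⟩; exact hsq x)) hsq hyW
  have hS : (fun u => y * u) '' (W : Set K) = {x | x * x = w} := by
    apply Set.eq_of_subset_of_ncard_le
    · rintro _ ⟨u, hu, rfl⟩; exact (h.sq_mul hu).trans hy
    · rw [h4, Set.ncard_image_of_injective _ (mul_right_injective y)]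
      exact h.card.ge
    · exact Set.toFinite _
  have := (h.sub hWM).card_le_of_nonsq (w := ⟨w, hWM hw⟩) hw (fun e => hw1 (congrArg Subtype.val e))
    fun x hx => by
      obtain ⟨u, hu, e⟩ : (x : K) ∈ (fun u => y * u) '' (W : Set K) := hS ▸ congrArg Subtype.val hx
      exact hyM ((mul_mem_cancel_right (hWM hu)).1 (by simp only at e; rw [e]; exact x.2))
  have h2 := M.card_mul_index
  rw [hi, hK] at h2
  omega

theorem exists_three : ∃ a b c : K, (a ∈ W ∧ a ≠ 1) ∧ (b ∈ W ∧ b ≠ 1) ∧ (c ∈ W ∧ c ≠ 1) ∧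
    ∀ C : Subgroup K, W ≤ C → Nat.card C = 4 + ({x | x * x = a} ∩ C : Set K).ncard +
      ({x | x * x = b} ∩ C : Set K).ncard + ({x | x * x = c} ∩ C : Set K).ncard := by
  have h3 : ((W : Set K) \ {1}).ncard = 3 := by
    rw [Set.ncard_diff_singleton_of_mem W.one_mem]
    exact congrArg (· - 1) h.card
  obtain ⟨a, b, c, hab, hac, hbc, hs⟩ := Set.ncard_eq_three.1 h3
  have ha : a ∈ (W : Set K) \ {1} := by simp [hs]
  have hb : b ∈ (W : Set K) \ {1} := by simp [hs]
  have hc : c ∈ (W : Set K) \ {1} := by simp [hs]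
  refine ⟨a, b, c, ha, hb, hc, fun C hC => ?_⟩
  have e : (C : Set K) = (W : Set K) ∪ ({x | x * x = a} ∩ C) ∪ ({x | x * x = b} ∩ C) ∪
      ({x | x * x = c} ∩ C) := by
    ext x
    constructor
    · intro hx
      by_cases h1 : x * x = 1
      · exact Or.inl (Or.inl (Or.inl ((h.mem x).2 h1)))
      have : x * x ∈ ({a, b, c} : Set K) := hs ▸ ⟨h.sq x, h1⟩
      rcases this with h | h | h
      · exact Or.inl (Or.inl (Or.inr ⟨h, hx⟩))
      · exact Or.inl (Or.inr ⟨h, hx⟩)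
      · exact Or.inr ⟨h, hx⟩
    · rintro (((hx | hx) | hx) | hx)
      exacts [hC hx, hx.2, hx.2, hx.2]
  change (C : Set K).ncard = _
  conv_lhs => rw [e]
  rw [Set.ncard_union_eq, Set.ncard_union_eq, Set.ncard_union_eq, ← h.card]
  · rfl
  · exact Set.disjoint_left.2 fun x h1 h2 => ha.2 (h2.1.symm.trans ((h.mem x).1 h1))
  · refine Set.disjoint_left.2 ?_
    rintro x (h1 | h1) h2
    · exact hb.2 (h2.1.symm.trans ((h.mem x).1 h1))
    · exact hab (h1.1.symm.trans h2.1)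
  · refine Set.disjoint_left.2 ?_
    rintro x ((h1 | h1) | h1) h2
    · exact hc.2 (h2.1.symm.trans ((h.mem x).1 h1))
    · exact hac (h1.1.symm.trans h2.1)
    · exact hbc (h1.1.symm.trans h2.1)

theorem level_modEq {r : ℕ} [Fact r.Prime] {α : MulAut K} (hα : α ^ r = 1) (hf : W ≤ fixedSub α)
    {w : K} (hw : w ∈ W) :
    ({x | x * x = w} : Set K).ncard ≡ ({x | x * x = w} ∩ fixedSub α : Set K).ncard [MOD r] :=
  ncard_modEq hα _ fun x hx => by
    change α x * α x = w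
    rw [← map_mul, hx]; exact hf hw

theorem cards {r : ℕ} [hr : Fact r.Prime] {α : MulAut K} (hα : orderOf α = r) (hf : W ≤ fixedSub α) :
    ∃ a c, Nat.card K = 2 ^ a ∧ Nat.card (fixedSub α) = 2 ^ c ∧ 2 ≤ c ∧ c < a ∧ a ≤ 6 ∧
      r ∣ 2 ^ a - 2 ^ c := by
  obtain ⟨a, ha⟩ := h.isPGroup.exists_card_eq
  obtain ⟨c, hc⟩ := (h.isPGroup.to_subgroup (fixedSub α)).exists_card_eq
  have h1 := card_le_of_le hf
  have h2 : Nat.card (fixedSub α) < Nat.card K := by
    rw [← card_top (G := K)]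
    refine H1.card_lt_of_lt (lt_top_iff_ne_top.2 fun e => ?_)
    have : α = 1 := MulEquiv.ext fun x => (e ▸ mem_top x : x ∈ fixedSub α)
    rw [this, orderOf_one] at hα
    exact hr.out.one_lt.ne hα
  have h3 := h.card_le
  have h4 := ncard_modEq (r := r) (α := α) (by rw [← hα, pow_orderOf_eq_one]) Set.univ (by simp)
  rw [Set.univ_inter, Set.ncard_univ, ha] at h4
  change _ ≡ Nat.card (fixedSub α) [MOD r] at h4
  rw [h.card, hc] at h1
  rw [ha, hc] at h2
  rw [ha] at h3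
  rw [hc] at h4
  exact ⟨a, c, ha, hc, (Nat.pow_le_pow_iff_right one_lt_two).1 (h1 : 2 ^ 2 ≤ _),
    (Nat.pow_lt_pow_iff_right one_lt_two).1 h2, (Nat.pow_le_pow_iff_right one_lt_two).1 (h3 : _ ≤ 2 ^ 6),
    (Nat.modEq_iff_dvd' h2.le).1 h4.symm⟩

theorem prime_cases {r : ℕ} [hr : Fact r.Prime] {α : MulAut K} (hα : orderOf α = r)
    (hf : W ≤ fixedSub α) : r = 2 ∨ r = 3 ∨ (r = 5 ∧ Nat.card K = 64 ∧
      ∀ w ∈ W, w ≠ 1 → 20 ∣ ({x | x * x = w} : Set K).ncard) := by
  obtain ⟨a, c, ha, hc, h1, h2, h3, h4⟩ := h.cards hα hf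
  have hα' : α ^ r = 1 := by rw [← hα, pow_orderOf_eq_one]
  obtain ⟨u, v, w, hu, hv, hw, hs⟩ := h.exists_three
  have s1 := hs ⊤ le_top
  have s2 := hs _ hf
  simp only [coe_top, Set.inter_univ, card_top] at s1
  have d1 := fun x => h.four_dvd (le_top : W ≤ ⊤) x
  simp only [coe_top, Set.inter_univ] at d1
  have d2 := fun x => h.four_dvd hf x
  have key : r = 2 ∨ r = 3 ∨ (r = 5 ∧ a = 6 ∧ c = 2) ∨ (r = 7 ∧ a = c + 3) := by
    have hp := hr.out
    have hle := Nat.le_of_dvd (Nat.sub_pos_of_lt (Nat.pow_lt_pow_right one_lt_two h2)) h4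
    have h60 : r ≤ 60 := by
      have : 2 ^ a ≤ 2 ^ 6 := Nat.pow_le_pow_right two_pos h3
      have : 2 ^ 2 ≤ 2 ^ c := Nat.pow_le_pow_right two_pos h1
      omega
    clear hle hα hα' s1 s2 ha hc hr
    interval_cases r <;> first | (exfalso; revert hp; norm_num; done) | skip
    all_goals
      interval_cases a <;> interval_cases c <;> omega
  rcases key with rfl | rfl | ⟨rfl, rfl, rfl⟩ | ⟨rfl, rfl⟩
  · exact Or.inl rfl
  · exact Or.inr (Or.inl rfl)
  · refine Or.inr (Or.inr ⟨rfl, ha, fun x hx hx1 => ?_⟩)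
    have hW : W = fixedSub α := eq_of_le_of_card_ge hf (by rw [hc, h.card]; rfl)
    have m := h.level_modEq hα' hf hx
    rw [← hW, (Set.eq_empty_iff_forall_notMem (s := {y | y * y = x} ∩ (W : Set K))).2
      fun y hy => hx1 (hy.1.symm.trans ((h.mem y).1 hy.2)), Set.ncard_empty] at m
    have := d1 x
    unfold Nat.ModEq at m
    omega
  · exfalso
    have m1 := h.level_modEq hα' hf hu.1
    have m2 := h.level_modEq hα' hf hv.1
    have m3 := h.level_modEq hα' hf hw.1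
    unfold Nat.ModEq at m1 m2 m3
    have hK : 16 < Nat.card K := by
      have : 2 ^ 5 ≤ 2 ^ (c + 3) := Nat.pow_le_pow_right two_pos (by omega)
      omega
    have n1 := h.ncard_ne_zero hK hu.1 hu.2
    have n2 := h.ncard_ne_zero hK hv.1 hv.2
    have n3 := h.ncard_ne_zero hK hw.1 hw.2
    have e1 := d1 u
    have e2 := d1 v
    have e3 := d1 w
    have f1 := d2 u
    have f2 := d2 v
    have f3 := d2 w
    rw [ha] at s1
    rw [hc] at s2
    obtain rfl | rfl : c = 2 ∨ c = 3 := by omega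
    · exact arith1 s1 s2 m1 m2 e1 e2 n1 n2
    · exact arith2 s1 s2 m1 m2 m3 e1 e2 e3 f1 f2 f3 n1 n2 n3 (h.ncard_ne_four ha hu.1 hu.2)
        (h.ncard_ne_four ha hv.1 hv.2) (h.ncard_ne_four ha hw.1 hw.2)

theorem not_three_five {α β : MulAut K} (hα : orderOf α = 5) (hβ : orderOf β = 3)
    (hf : W ≤ fixedSub α) (hg : W ≤ fixedSub β) : False := by
  haveI : Fact (Nat.Prime 5) := ⟨Nat.prime_five⟩
  haveI : Fact (Nat.Prime 3) := ⟨Nat.prime_three⟩
  obtain h5 | h5 | ⟨-, hK, h20⟩ := h.prime_cases hα hf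
  · omega
  · omega
  obtain ⟨a, c, ha, hc, h1, h2, h3, h4⟩ := h.cards hβ hg
  have hβ' : β ^ 3 = 1 := by rw [← hβ, pow_orderOf_eq_one]
  obtain ⟨u, v, w, hu, hv, hw, hs⟩ := h.exists_three
  have s1 := hs ⊤ le_top
  have s2 := hs _ hg
  simp only [coe_top, Set.inter_univ, card_top] at s1
  have m1 := h.level_modEq hβ' hg hu.1
  have m2 := h.level_modEq hβ' hg hv.1
  have m3 := h.level_modEq hβ' hg hw.1
  unfold Nat.ModEq at m1 m2 m3
  have n1 := h.ncard_ne_zero (by omega) hu.1 hu.2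
  have n2 := h.ncard_ne_zero (by omega) hv.1 hv.2
  have n3 := h.ncard_ne_zero (by omega) hw.1 hw.2
  have e1 := h20 u hu.1 hu.2
  have e2 := h20 v hv.1 hv.2
  have e3 := h20 w hw.1 hw.2
  have f1 := h.four_dvd hg u
  have f2 := h.four_dvd hg v
  have f3 := h.four_dvd hg w
  rw [hK] at s1
  have := arith3 s1 m1 m2 m3 e1 e2 e3 f1 f2 f3 n1 n2 n3
  rw [hc] at s2
  rw [hK] at ha
  interval_cases a <;> interval_cases c <;> omega

end C3

theorem orderOf_restrict {r : ℕ} [hr : Fact r.Prime] {G : Type*} [Group G] (C : Subgroup G)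
    [C.Characteristic] {α : MulAut G} (hα : orderOf α = r) (h : (∀ x ∈ C, α x = x) → α = 1) :
    orderOf (MulAut.characteristic C α) = r := by
  refine orderOf_eq_prime (by rw [← map_pow, ← hα, pow_orderOf_eq_one, map_one]) fun e => ?_
  have := h fun x hx => congrArg Subtype.val (DFunLike.congr_fun e (⟨x, hx⟩ : C))
  rw [this, orderOf_one] at hα
  exact hr.out.one_lt.ne hα

/-- Reduction to exponent four. -/
theorem exists_c3 {X : Type*} [Group X] [Finite X] (h2 : IsPGroup 2 X) (W : Subgroup X)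
    (hW : ∀ x, x ∈ W ↔ x * x = 1) (h4 : Nat.card W = 4) :
    ∃ (K : Subgroup X) (V : Subgroup K), C3 V ∧ ∀ (r : ℕ) [Fact r.Prime] (α : MulAut X), r ≠ 2 →
      orderOf α = r → W ≤ fixedSub α → ∃ β : MulAut K, orderOf β = r ∧ V ≤ fixedSub β := by
  haveI : W.Characteristic := characteristic_of_aut_mem fun φ x hx =>
    (hW _).2 (by rw [← map_mul, (hW x).1 hx, map_one])
  have hWc : W ≤ centralizer (W : Set X) := fun x hx => mem_centralizer_iff.2 fun y hy =>
    congrArg Subtype.val (Commute.of_orderOf_dvd_two (G := W) (fun g => orderOf_dvd_of_pow_eq_one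
      (Subtype.ext (by rw [SubgroupClass.coe_pow, pow_two]; exact (hW _).1 g.2))) ⟨y, hy⟩ ⟨x, hx⟩).eq
  set Y := centralizer (W : Set X) with hY
  obtain ⟨H, hH⟩ := exists_isCritical (h2.to_subgroup Y)
  haveI := hH.char
  let K₀ : Subgroup H :=
    { carrier := {x | x ^ 2 ^ 2 = 1}
      one_mem' := one_pow _
      mul_mem' := by
        intro x y hx hy
        apply Subtype.ext
        have hx' : (x : Y) ^ 2 ^ 2 = 1 := congrArg Subtype.val hx
        have hy' : (y : Y) ^ 2 ^ 2 = 1 := congrArg Subtype.val hy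
        change ((x : Y) * y) ^ 2 ^ 2 = 1
        rw [mul_pow_eq_of_class_two (p := 2) (hH.commutator_mem y y.2 x x x.2)
          (hH.commutator_mem y y.2 x y y.2) (by decide) (hH.commutator_pow_eq_one y.2 x.2), hx', hy',
          one_mul]
      inv_mem' := fun {x} hx => by
        change x⁻¹ ^ 2 ^ 2 = 1
        rw [inv_pow, hx, inv_one] }
  haveI : K₀.Characteristic := characteristic_of_aut_mem fun φ x hx => by
    change φ x ^ 2 ^ 2 = 1
    rw [← map_pow, hx, map_one]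
  let ι : K₀ →* X := Y.subtype.comp (H.subtype.comp K₀.subtype)
  have hι : Function.Injective ι :=
    Y.subtype_injective.comp (H.subtype_injective.comp K₀.subtype_injective)
  have hWr : W ≤ ι.range := fun x hx =>
    ⟨⟨⟨⟨x, hWc hx⟩, hH.centralizer_le (mem_centralizer_iff.2 fun y _ =>
      Subtype.ext (mem_centralizer_iff.1 y.2 x hx).symm)⟩, Subtype.ext (Subtype.ext (by
        change x ^ 2 ^ 2 = 1
        rw [show 2 ^ 2 = 2 * 2 from rfl, pow_mul, pow_two x, (hW x).1 hx, one_pow]))⟩, rfl⟩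
  let e := MonoidHom.ofInjective hι
  refine ⟨ι.range, W.subgroupOf _, ⟨fun x => (hW x).trans ⟨fun e => Subtype.ext e,
    fun e => congrArg Subtype.val e⟩, ?_, ?_, by
      rw [Nat.card_congr (subgroupOfEquivOfLe hWr).toEquiv, h4]⟩, fun r _ α hr hα hf => ?_⟩
  · rintro ⟨_, x, rfl⟩
    refine (hW _).2 ?_
    have := congrArg ι (show x ^ 2 ^ 2 = 1 from Subtype.ext x.2)
    rw [map_pow, map_one, show 2 ^ 2 = 2 * 2 from rfl, pow_mul, pow_two, pow_two] at this
    exact this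
  · rintro x hx
    rw [mem_center_iff]
    rintro ⟨_, y, rfl⟩
    exact Subtype.ext (mem_centralizer_iff.1 y.1.1.2 x hx).symm
  · have hc : ∀ {G : Type _} [Group G] {β : MulAut G}, orderOf β = r → (orderOf β).Coprime 2 :=
      fun h => h ▸ (Nat.coprime_primes Fact.out Nat.prime_two).2 hr
    have o1 := orderOf_restrict Y hα (aut_eq_one_of_centralizer_le h2 α (hc hα) Y
      (centralizer_le hWc))
    have o2 := orderOf_restrict H o1 (hH.aut_eq_one (h2.to_subgroup Y) _ (hc o1))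
    have o3 := orderOf_restrict K₀ o2 (aut_eq_one_of_omega_two ((h2.to_subgroup Y).to_subgroup H) _ (hc o2))
    refine ⟨MulAut.congr e (MulAut.characteristic K₀ (MulAut.characteristic H (MulAut.characteristic Y α))),
      by rw [MulEquiv.orderOf_eq, o3], ?_⟩
    intro x hx
    obtain ⟨y, rfl⟩ := e.surjective x
    rw [mem_fixedSub, MulAut.congr_apply, MulEquiv.trans_apply, MulEquiv.trans_apply,
      MulEquiv.symm_apply_apply]
    exact congrArg e (hι (hf hx))

end H13.TG
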