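import Mathlib
import Cfsg.Agent.Lib.H4.OutSmall
import Cfsg.Agent.Lib.Core.PCore
import Cfsg.Agent.Lib.FGS83.SecRank
import Cfsg.Agent.S0256

/-!
# Constrained groups act on the Frattini quotient of `O_p`; the case of rank at most four
-/

set_option autoImplicit false

namespace H13.TG

open Subgroup Cfsg

variable {X : Type*} [Group X] [Finite X]

theorem centralizer_pCore_le {p : ℕ} [Fact p.Prime] (hc : IsPConstrained p X) (hO : pPrimeCore p X = ⊥) :
    centralizer (pCore p X : Set X) ≤ pCore p X := by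
  have hk : IsPGroup p (QuotientGroup.mk' (pPrimeCore p X)).ker := by
    rw [QuotientGroup.ker_mk', hO]; exact IsPGroup.of_bot
  have e : pPrimePCore p X = pCore p X := H1.comap_pCore_of_ker (QuotientGroup.mk'_surjective _) hk
  obtain ⟨P⟩ : Nonempty (Sylow p (pPrimePCore p X)) := inferInstance
  have hP : (P : Subgroup (pPrimePCore p X)) = ⊤ :=
    (P.3 (IsPGroup.to_subgroup (by rw [e]; exact H1.isPGroup_pCore) ⊤) le_top).symm
  have := hc P
  rwa [hP, ← MonoidHom.range_eq_map, range_subtype, e] at this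

theorem pPrimeCore_two_eq_bot (hO : oddCore X = ⊥) : pPrimeCore 2 X = ⊥ :=
  le_bot_iff.1 (H1.pPrimeCore_le fun N hN h => hO ▸ H1.le_oddCore (Nat.coprime_two_right.1 h))

/-- The action on the Frattini quotient of `O_p(X)`. -/
noncomputable def fratAct (p : ℕ) (X : Type*) [Group X] :
    X →* MulAut (pCore p X ⧸ frattini (pCore p X)) :=
  (H4.fratAut _).comp MulAut.conjNormal

theorem ker_fratAct {p : ℕ} [Fact p.Prime] (hc : centralizer (pCore p X : Set X) ≤ pCore p X) :
    (fratAct p X).ker = pCore p X := by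
  have hP : IsPGroup p (pCore p X) := H1.isPGroup_pCore
  apply le_antisymm
  · apply H1.le_pCore
    rw [fratAct, ← MonoidHom.comap_ker]
    refine (H4.isPGroup_ker_fratAut hP).comap_of_ker_isPGroup _ (hP.to_le fun x hx => hc fun y hy => ?_)
    have := congrArg Subtype.val (DFunLike.congr_fun (MonoidHom.mem_ker.1 hx) ⟨y, hy⟩)
    simp only [MulAut.conjNormal_apply, MulAut.one_apply] at this
    rw [← this]; simp only [inv_mul_cancel_right]
    conv_rhs => rw [this]
  · intro x hx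
    rw [MonoidHom.mem_ker]
    ext a
    obtain ⟨a, rfl⟩ := QuotientGroup.mk_surjective a
    rw [fratAct, MonoidHom.comp_apply, H4.fratAut_mk, MulAut.one_apply, QuotientGroup.eq]
    have := H5.commutatorElement_mem_frattini hP ⟨x, hx⟩ a⁻¹
    convert this using 1
    apply Subtype.ext
    simp [commutatorElement_def, mul_assoc]

theorem exists_GL4_A8 : ∃ f : GL (Fin 4) (ZMod 2) →* alternatingGroup (Fin 8), Function.Injective f := by
  obtain ⟨e⟩ := Cfsg.Agent.S0256.result (F := ZMod 2) (ZMod.card 2)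
  let s : GL (Fin 4) (ZMod 2) →* Matrix.SpecialLinearGroup (Fin 4) (ZMod 2) :=
    MonoidHom.mk' (fun g => ⟨g, by
      have : ∀ u : (ZMod 2)ˣ, (u : ZMod 2) = 1 := by decide
      exact this (Matrix.GeneralLinearGroup.det g)⟩) fun a b => Subtype.ext rfl
  refine ⟨e.toMonoidHom.comp ((QuotientGroup.mk' _).comp s), e.injective.comp ?_⟩
  refine (injective_iff_map_eq_one _).2 fun g hg => ?_
  obtain ⟨r, hr, h⟩ := Matrix.SpecialLinearGroup.mem_center_iff.1 ((QuotientGroup.eq_one_iff _).1 hg)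
  have : ∀ r : ZMod 2, r ^ Fintype.card (Fin 4) = 1 → r = 1 := by decide
  rw [this r hr, map_one] at h
  exact Units.ext h.symm

theorem exists_aut_GL {W : Type*} [Group W] [Finite W] {p : ℕ} [hp : Fact p.Prime] (hc : IsMulCommutative W)
    (he : ∀ w : W, w ^ p = 1) {n : ℕ} (hn : Nat.card W ≤ p ^ n) :
    ∃ f : MulAut W →* GL (Fin n) (ZMod p), Function.Injective f := by
  obtain ⟨k, hk⟩ := IsPGroup.iff_card.1 (show IsPGroup p W from fun w => ⟨1, by simpa using he w⟩)
  have hkn : k ≤ n := (Nat.pow_le_pow_iff_right hp.out.one_lt).1 (hk ▸ hn)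
  let V := Fin (n - k) → Multiplicative (ZMod p)
  obtain ⟨e⟩ := H23.nonempty_mulAut_equiv_GL (W := W × V) (p := p) (n := n)
    ⟨⟨fun a b => Prod.ext (hc.1.1 _ _) (mul_comm _ _)⟩⟩
    (fun w => Prod.ext (he _) (funext fun i => by
      show (w.2 i) ^ p = 1
      rw [← ofAdd_toAdd (w.2 i), ← ofAdd_nsmul, nsmul_eq_mul, ZMod.natCast_self, zero_mul, ofAdd_zero]))
    (by simp [V, hk, Nat.card_fun, ← pow_add, hkn])
  let j : MulAut W →* MulAut (W × V) :=
    MonoidHom.mk' (fun a => MulEquiv.prodCongr a (MulEquiv.refl V)) fun a b => rfl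
  refine ⟨e.toMonoidHom.comp j, e.injective.comp fun a b h => ?_⟩
  ext w
  exact congrArg Prod.fst (DFunLike.congr_fun h (w, 1))

theorem fratQuot_comm {S : Type*} [Group S] [Finite S] {p : ℕ} [Fact p.Prime] (hS : IsPGroup p S) :
    IsMulCommutative (S ⧸ frattini S) :=
  (Normal.quotient_commutative_iff_commutator_le).2 (H5.commutator_le_frattini hS)

theorem fratQuot_pow {S : Type*} [Group S] [Finite S] {p : ℕ} [Fact p.Prime] (hS : IsPGroup p S)
    (w : S ⧸ frattini S) : w ^ p = 1 := by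
  obtain ⟨a, rfl⟩ := QuotientGroup.mk_surjective w
  rw [← QuotientGroup.mk_pow, QuotientGroup.eq_one_iff]
  exact H5.pow_mem_frattini hS a

theorem exists_hom_GL4 (hc : centralizer (pCore 2 X : Set X) ≤ pCore 2 X) (h4 : H83.SR 4 (pCore 2 X)) :
    ∃ f : X →* GL (Fin 4) (ZMod 2), f.ker = pCore 2 X := by
  haveI : Fact (Nat.Prime 2) := ⟨Nat.prime_two⟩
  have hP : IsPGroup 2 (pCore 2 X) := H1.isPGroup_pCore
  obtain ⟨f, hf⟩ := exists_aut_GL (fratQuot_comm hP) (fratQuot_pow hP) (n := 4) (by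
    have := h4 ⊤ (frattini _) le_top fun x _ => by rw [← pow_two]; exact H5.pow_mem_frattini hP x
    rwa [relIndex_top_right] at this)
  exact ⟨f.comp (fratAct 2 X), by rw [MonoidHom.ker_comp_of_injective _ _ hf, ker_fratAct hc]⟩

theorem exists_hom_A8 (hc : centralizer (pCore 2 X : Set X) ≤ pCore 2 X) (h4 : H83.SR 4 (pCore 2 X)) :
    ∃ f : X →* alternatingGroup (Fin 8), f.ker = pCore 2 X := by
  obtain ⟨f, hf⟩ := exists_hom_GL4 hc h4
  obtain ⟨g, hg⟩ := exists_GL4_A8
  exact ⟨g.comp f, by rw [MonoidHom.ker_comp_of_injective _ _ hg, hf]⟩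

end H13.TG
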