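import Cfsg.Agent.Lib.TwoGrp.AutSyl
import Cfsg.Agent.Lib.SylT.U3T

/-! Automorphisms of the Sylow 2-subgroups of `SU₃(q)`, `q` even. -/

set_option autoImplicit false
set_option linter.unusedSectionVars false

namespace H13.TG.AS

open Subgroup Cfsg H11.U H72 H55.SylT

variable {F : Type*} [Field F] [Fintype F] {q : ℕ} [IsSq F q] [CharP F 2]

variable (F q) in
theorem sc_UQ : SC (UQ.X : UQ F q → F) where
  mul _ _ := rfl
  surj := exists_X
  cen _ hz g := UQ.comm_of_X hz g
  sq _ := UQ.mul_self_eq_one_iff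
  root z hz := by
    obtain ⟨x, hx⟩ := exists_norm_eq (fix_Y hz)
    obtain ⟨g, rfl⟩ := exists_X (q := q) x
    exact ⟨g, UQ.ext (by rw [UQ.sq_X, hz]) (by rw [UQ.sq_Y, hx])⟩

theorem ring_cj (φ : F ≃+* F) (x : F) : φ (cj q x) = cj q (φ x) := by
  rw [cj_apply, cj_apply, map_pow]

theorem lo_UQ (a : F) (ha : a ≠ 0) (φ : F ≃+* F) :
    ∃ α : MulAut (UQ F q), ∀ g, (α g).X = a * φ g.X := by
  let f : UQ F q →* UQ F q := MonoidHom.mk' (fun g => ⟨a * φ g.X, a * cj q a * φ g.Y, by
      have := congrArg φ g.h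
      simp only [map_add, map_mul, ring_cj, cj_cj] at this ⊢
      linear_combination a * cj q a * this⟩) fun g g' => UQ.ext
        (by simp only [UQ.mul_X, map_add]; ring)
        (by simp only [UQ.mul_Y, map_add, map_mul, ring_cj]; ring)
  have hf : Function.Injective f := (injective_iff_map_eq_one f).2 fun g hg => by
    have h1 : a * φ g.X = 0 := congrArg UQ.X hg
    have h2 : a * cj q a * φ g.Y = 0 := congrArg UQ.Y hg
    simp only [mul_eq_zero, ha, cj_eq_zero, or_self, false_or, map_eq_zero] at h1 h2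
    exact UQ.ext h1 h2
  exact ⟨MulEquiv.ofBijective f (Finite.injective_iff_bijective.1 hf), fun _ => rfl⟩

theorem semilinear {φ : F → F} (hadd : ∀ x y, φ (x + y) = φ x + φ y) (h1 : φ 1 = 1)
    (hc : ∀ x y, cj q (φ x) * φ y = cj q (φ y) * φ x ↔ cj q x * y = cj q y * x)
    (hN : ∀ x y, x * cj q x = y * cj q y → φ x * cj q (φ x) = φ y * cj q (φ y)) (x y : F) :
    φ (x * y) = φ x * φ y := by
  have c2 : (2 : F) = 0 := CharTwo.two_eq_zero
  have hfix : ∀ x, cj q (φ x) = φ x ↔ cj q x = x := fun x => by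
    simpa only [h1, map_one, one_mul, mul_one] using hc x 1
  have hsc : ∀ l x, cj q l = l → φ x ≠ 0 → ∃ t, cj q t = t ∧ φ (l * x) = t * φ x := fun l x hl hx => by
    refine ⟨φ (l * x) / φ x, ?_, by field_simp⟩
    have h2 := (hc (l * x) x).2 (by rw [map_mul, hl]; ring)
    have h3 : cj q (φ x) ≠ 0 := cj_ne_zero.2 hx
    rw [map_div₀, div_eq_div_iff h3 hx, h2, mul_comm]
  have hout : ∀ l x, cj q l = l → cj q x ≠ x → φ (l * x) = φ l * φ x := fun l x hl hx => by
    have h2 : cj q (φ x) ≠ φ x := fun e => hx ((hfix x).1 e)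
    obtain ⟨t, ht, e1⟩ := hsc l x hl fun e => h2 (by rw [e, map_zero])
    obtain ⟨s, hs, e2⟩ := hsc l (1 + x) hl fun e => h2 (by
      rw [hadd, h1, CharTwo.add_eq_zero] at e
      rw [← e, map_one])
    rw [mul_add, mul_one, hadd, hadd, h1, e1] at e2
    have e3 := congrArg (cj q) e2
    simp only [map_add, map_mul, map_one, ht, hs, (hfix l).2 hl] at e3
    have e4 : (s - t) * (cj q (φ x) - φ x) = 0 := by linear_combination e2 - e3
    have e5 : s = t := sub_eq_zero.1 ((mul_eq_zero.1 e4).resolve_right (sub_ne_zero.2 h2))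
    subst e5
    rw [e1]
    congr 1
    linear_combination -e2
  have hin : ∀ l x, cj q l = l → φ (l * x) = φ l * φ x := fun l x hl => by
    by_cases hx : cj q x = x
    · obtain ⟨w, hw⟩ := exists_cj_ne F q
      have e1 := hout l (x + w) hl fun e => hw (by rw [map_add, hx] at e; exact add_left_cancel e)
      rw [mul_add, hadd, hadd, hout l w hl hw] at e1
      linear_combination e1
    · exact hout l x hl hx
  have hn : ∀ x, φ (x * cj q x) = φ x * cj q (φ x) := fun x => by
    have : Fact (Nat.Prime 2) := ⟨Nat.prime_two⟩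
    obtain ⟨l, hl⟩ := (Finite.injective_iff_surjective.1 (frobenius_inj F 2)) (x * cj q x)
    rw [frobenius_def] at hl
    have h2 : cj q l = l := frobenius_inj F 2 (by
      rw [frobenius_def, frobenius_def, ← map_pow, hl, cj_norm])
    rw [hN x l (by rw [h2, ← hl, pow_two]), ← hl, pow_two, hin l l h2, (hfix l).2 h2]
  have ht : ∀ x, φ (cj q x) = cj q (φ x) := fun x => by
    have e1 := hn (1 + x)
    rw [show (1 + x) * cj q (1 + x) = 1 + x + cj q x + x * cj q x by rw [map_add, map_one]; ring,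
      hadd, hadd, hadd, hn, h1, map_add, map_one] at e1
    linear_combination e1
  by_cases hx : cj q x = x
  · exact hin x y hx
  · obtain ⟨s, t, hs, ht', rfl⟩ := exists_fixed_comb (q := q) (a := 1) (b := cj q x)
      (by rw [cj_cj, map_one, one_mul, mul_one]; exact fun e => hx e.symm) y
    rw [show x * (s * 1 + t * cj q x) = s * x + t * (x * cj q x) by ring, hadd, hadd, hin _ _ hs,
      hin _ _ ht', hin _ _ hs, hin _ _ ht', hn, ht, h1]
    ring

theorem up_UQ (α : MulAut (UQ F q)) : ∃ (a : F) (φ : F ≃+* F), ∀ g, (α g).X = a * φ g.X := by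
  have h := sc_UQ F q
  have ha : h.rho α 1 ≠ 0 := by
    obtain ⟨g, hg⟩ := h.surj 1
    rw [← hg, h.rho_apply, Ne, h.map_eq_zero, hg]
    exact one_ne_zero
  have hca : cj q (h.rho α 1) ≠ 0 := cj_ne_zero.2 ha
  have hadd : ∀ x y, h.rho α (x + y) / h.rho α 1 = h.rho α x / h.rho α 1 + h.rho α y / h.rho α 1 :=
    fun x y => by
      obtain ⟨g, rfl⟩ := h.surj x
      obtain ⟨g', rfl⟩ := h.surj y
      rw [← h.mul, h.rho_apply, h.rho_apply, h.rho_apply, map_mul, h.mul, add_div]
  have hmul := semilinear (q := q) (φ := fun x => h.rho α x / h.rho α 1) hadd (div_self ha)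
    (fun x y => by
      obtain ⟨g, rfl⟩ := h.surj x
      obtain ⟨g', rfl⟩ := h.surj y
      rw [← comm_iff, ← α.injective.eq_iff, map_mul, map_mul, comm_iff, h.rho_apply, h.rho_apply,
        map_div₀, map_div₀, div_mul_div_comm, div_mul_div_comm, div_left_inj' (mul_ne_zero hca ha)])
    (fun x y e => by
      obtain ⟨g, rfl⟩ := h.surj x
      obtain ⟨g', rfl⟩ := h.surj y
      have e1 : g * g = g' * g' := UQ.ext (by rw [UQ.sq_X, UQ.sq_X]) (by rw [UQ.sq_Y, UQ.sq_Y, e])
      have e2 := congrArg (fun s => (α s).Y) e1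
      simp only [map_mul α, UQ.sq_Y] at e2
      rw [h.rho_apply, h.rho_apply, map_div₀, map_div₀, div_mul_div_comm, div_mul_div_comm, e2])
  let f : F →+* F :=
    { toFun := fun x => h.rho α x / h.rho α 1
      map_one' := div_self ha
      map_mul' := hmul
      map_zero' := by rw [← h.one, h.rho_apply, map_one, h.one, zero_div]
      map_add' := hadd }
  refine ⟨h.rho α 1, RingEquiv.ofBijective f (Finite.injective_iff_bijective.1 f.injective), fun g => ?_⟩
  change _ = _ * (h.rho α g.X / _)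
  rw [h.rho_apply, mul_div_cancel₀ _ ha]

theorem equiv_UQ (h2 : 2 ∣ q) (P : Sylow 2 (SU 3 F q)) : Nonempty (P ≃* UQ F q) := by
  have : Fact (Nat.Prime 2) := ⟨Nat.prime_two⟩
  have hi : Function.Injective (UQ.toSU F q) := Function.Injective.of_comp UQ.toPSU_injective
  have hP := UQ.isPGroup.of_equiv (MonoidHom.ofInjective hi)
  refine ⟨(Sylow.equiv P (hP.toSylow fun h => ?_)).trans (MonoidHom.ofInjective hi).symm⟩
  have h1 := card_PSU_three F q
  have h0 := two_le_q F q
  rw [← card_SU_eq_mul_card_PSU (by norm_num), ← (UQ.toSU F q).range.card_mul_index,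
    ← Nat.card_congr (MonoidHom.ofInjective hi).toEquiv, card_UQ] at h1
  have h3 := Nat.eq_of_mul_eq_mul_left (by positivity) h1
  have h4 : Odd ((q ^ 2 - 1) * (q ^ 3 + 1)) :=
    (Nat.Even.sub_odd (Nat.one_le_pow _ _ (by omega)) ((even_iff_two_dvd.2 h2).pow_of_ne_zero two_ne_zero)
      odd_one).mul ((even_iff_two_dvd.2 h2).pow_of_ne_zero three_ne_zero).add_one
  exact h4.not_two_dvd_nat (h3 ▸ h)

theorem fix_of_sq {φ : F ≃+* F} (h : ∀ x, φ (φ x) = x) {y : F} (hy : cj q y = y) : φ y = y := by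
  classical
  have : Fact (Nat.Prime 2) := ⟨Nat.prime_two⟩
  let : Algebra (ZMod 2) F := ZMod.algebra F 2
  let A : (F ≃+* F) → (F ≃ₐ[ZMod 2] F) := fun σ => AlgEquiv.ofRingEquiv (f := σ) fun x =>
    RingHom.congr_fun (RingHom.ext_zmod ((σ : F →+* F).comp (algebraMap (ZMod 2) F))
      (algebraMap (ZMod 2) F)) x
  let c : F ≃+* F := RingEquiv.ofBijective (cj q) (Finite.injective_iff_bijective.1 cj_injective)
  have h1 := IsCyclic.card_pow_eq_one_le (α := F ≃ₐ[ZMod 2] F) (n := 2) two_pos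
  by_contra hne
  obtain ⟨w, hw⟩ := exists_cj_ne F q
  have h3 : ({1, A c, A φ} : Finset (F ≃ₐ[ZMod 2] F)).card = 3 := by
    rw [Finset.card_eq_three]
    exact ⟨_, _, _, fun e => hw (DFunLike.congr_fun e w).symm, fun e => hne (DFunLike.congr_fun e y).symm,
      fun e => hne ((DFunLike.congr_fun e y).symm.trans hy), rfl⟩
  have h4 : ({1, A c, A φ} : Finset (F ≃ₐ[ZMod 2] F)) ⊆ Finset.univ.filter fun a => a ^ 2 = 1 := by
    intro a ha
    simp only [Finset.mem_insert, Finset.mem_singleton] at ha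
    rw [Finset.mem_filter, pow_two]
    refine ⟨Finset.mem_univ _, ?_⟩
    rcases ha with rfl | rfl | rfl
    · exact mul_one _
    · exact AlgEquiv.ext fun x => cj_cj x
    · exact AlgEquiv.ext fun x => h x
  have := Finset.card_le_card h4
  omega

/-- An automorphism whose square acts trivially on the central quotient centralises the centre. -/
theorem fix_center (α : MulAut (UQ F q)) (hα : ∀ g, (α (α g)).X = g.X) {z : UQ F q} (hz : z.X = 0) :
    α z = z := by
  have h := sc_UQ F q
  obtain ⟨a, φ, e⟩ := up_UQ α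
  have h1 : ∀ x, a * φ a * φ (φ x) = x := fun x => by
    obtain ⟨g, rfl⟩ := h.surj x
    have := hα g
    rwa [e, e, map_mul, ← mul_assoc] at this
  have h2 : a * φ a = 1 := by simpa using h1 1
  simp only [h2, one_mul] at h1
  have h3 : a * cj q a = 1 := by
    have h4 := fix_of_sq h1 (cj_norm (q := q) a)
    have h5 := congrArg (cj q) h2
    rw [map_mul, ring_cj] at h4
    rw [map_mul, map_one] at h5
    refine eq_one_of_pow (k := 1) ?_
    linear_combination (-(a * cj q a)) * h4 + (cj q a * cj q (φ a)) * h2 + h5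
  obtain ⟨g, rfl⟩ := h.root z hz
  refine UQ.ext (by rw [map_mul, UQ.sq_X, UQ.sq_X]) ?_
  have h4 := fix_of_sq h1 (cj_norm (q := q) g.X)
  rw [map_mul, ring_cj] at h4
  rw [map_mul, UQ.sq_Y, UQ.sq_Y, e, map_mul]
  linear_combination (φ g.X * cj q (φ g.X)) * h3 + h4

end H13.TG.AS
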