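import Cfsg.Agent.Base
import Cfsg.Agent.Lib.Core.PCore
import Cfsg.Agent.Lib.RankOne.FieldAut

/-! Automorphism groups of special 2-groups coordinatised by a finite field whose automorphisms
induce the one-dimensional semilinear group on the central quotient. -/

set_option autoImplicit false
set_option linter.unusedSectionVars false

namespace H13.TG.AS

open Subgroup Cfsg

variable {S : Type*} [Group S] {F : Type*} [Field F] [CharP F 2]

/-- A coordinate on the central quotient. -/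
structure SC (X : S → F) : Prop where
  mul : ∀ g h, X (g * h) = X g + X h
  surj : Function.Surjective X
  cen : ∀ z, X z = 0 → ∀ g, z * g = g * z
  sq : ∀ g, g * g = 1 ↔ X g = 0
  root : ∀ z, X z = 0 → ∃ g, g * g = z

theorem card_hom {N : ℕ} [Fintype F] (hF : Fintype.card F = 2 ^ N) (A : Type*) [AddCommGroup A]
    (hA : ∀ a : A, a + a = 0) : Nat.card (F →+ A) = Nat.card A ^ N := by
  have : Fact (Nat.Prime 2) := ⟨Nat.prime_two⟩
  let : Algebra (ZMod 2) F := ZMod.algebra F 2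
  let : Module (ZMod 2) A := AddCommGroup.zmodModule fun a => by rw [two_nsmul, hA]
  have hr : Module.finrank (ZMod 2) F = N := by
    have h2 := Module.card_eq_pow_finrank (K := ZMod 2) (V := F)
    rw [ZMod.card, hF] at h2
    exact (Nat.pow_right_injective le_rfl h2).symm
  rw [Nat.card_congr (AddMonoidHom.toZModLinearMapEquiv 2).toEquiv,
    ← Nat.card_congr ((Module.finBasisOfFinrankEq (ZMod 2) F hr).constr ℕ).toEquiv, Nat.card_fun,
    Nat.card_eq_fintype_card (α := Fin N), Fintype.card_fin]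

theorem eq_one_of_pow {c : F} {k : ℕ} (h : c ^ 2 ^ k = 1) : c = 1 := by
  have : Fact (Nat.Prime 2) := ⟨Nat.prime_two⟩
  have h1 : (c - 1) ^ 2 ^ k = 0 := by rw [sub_pow_char_pow, h, one_pow, sub_self]
  exact sub_eq_zero.1 (pow_eq_zero_iff (by positivity) |>.1 h1)

namespace SC

variable {X : S → F} (h : SC X)
include h

theorem one : X 1 = 0 := by
  have := h.mul 1 1
  rw [mul_one] at this
  linear_combination -this

theorem inv (g : S) : X g⁻¹ = X g := by
  have h1 := h.mul g⁻¹ g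
  rw [inv_mul_cancel, h.one] at h1
  have h2 : (2 : F) = 0 := CharTwo.two_eq_zero
  linear_combination -h1 - X g * h2

theorem inv_mul_eq_zero {a b : S} : X (a⁻¹ * b) = 0 ↔ X a = X b := by
  rw [h.mul, h.inv, CharTwo.add_eq_zero]

theorem map_eq_zero (α : MulAut S) {z : S} : X (α z) = 0 ↔ X z = 0 := by
  rw [← h.sq, ← h.sq, ← map_mul, α.map_eq_one_iff]

theorem congr (α : MulAut S) {a b : S} (e : X a = X b) : X (α a) = X (α b) := by
  rw [← h.inv_mul_eq_zero, ← map_inv, ← map_mul, h.map_eq_zero, h.inv_mul_eq_zero]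
  exact e

theorem conj (s g : S) : X (s * g * s⁻¹) = X g := by
  rw [h.mul, h.mul, h.inv]
  have h2 : (2 : F) = 0 := CharTwo.two_eq_zero
  linear_combination X s * h2

theorem sq_congr {a b : S} (e : X a = X b) : a * a = b * b := by
  have h1 := h.inv_mul_eq_zero.2 e
  have h2 : b = a * (a⁻¹ * b) := by group
  rw [h2, mul_assoc, ← mul_assoc (a⁻¹ * b) a, h.cen _ h1 a, mul_assoc, (h.sq _).2 h1, mul_one]

/-- The coordinate as a homomorphism. -/
def hom : S →* Multiplicative F := MonoidHom.mk' (fun g => Multiplicative.ofAdd (X g)) fun a b => by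
  rw [h.mul, ofAdd_add]

theorem mem_ker {z : S} : z ∈ h.hom.ker ↔ X z = 0 := Iff.rfl

/-- The induced permutation of the field. -/
noncomputable def rho : MulAut S →* Equiv.Perm F := MonoidHom.toHomPerm
  { toFun := fun α x => X (α (Function.surjInv h.surj x))
    map_one' := funext fun x => Function.surjInv_eq h.surj x
    map_mul' := fun α β => funext fun _ => h.congr α (Function.surjInv_eq h.surj _).symm }

theorem rho_apply (α : MulAut S) (g : S) : h.rho α (X g) = X (α g) :=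
  h.congr α (Function.surjInv_eq h.surj _)

theorem mem_K {α : MulAut S} : α ∈ h.rho.ker ↔ ∀ g, X (α g) = X g := by
  rw [MonoidHom.mem_ker]
  refine ⟨fun e g => by rw [← h.rho_apply, e]; rfl, fun e => Equiv.ext fun x => ?_⟩
  obtain ⟨g, rfl⟩ := h.surj x
  rw [h.rho_apply, e]; rfl

theorem fix_of_mem_K {α : MulAut S} (hα : α ∈ h.rho.ker) {z : S} (hz : X z = 0) : α z = z := by
  obtain ⟨g, rfl⟩ := h.root z hz
  rw [map_mul]
  exact h.sq_congr (h.mem_K.1 hα g)

theorem d_mem {α : MulAut S} (hα : α ∈ h.rho.ker) (g : S) : X (g⁻¹ * α g) = 0 :=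
  h.inv_mul_eq_zero.2 (h.mem_K.1 hα g).symm

theorem mul_apply_K {α β : MulAut S} (hα : α ∈ h.rho.ker) (hβ : β ∈ h.rho.ker) (g : S) :
    α (β g) = g * (g⁻¹ * α g) * (g⁻¹ * β g) := by
  conv_lhs => rw [show β g = g * (g⁻¹ * β g) by group, map_mul, h.fix_of_mem_K hα (h.d_mem hβ g)]
  group

theorem ea_K : IsElementaryAbelian 2 h.rho.ker := by
  refine ⟨⟨⟨fun α β => Subtype.ext (MulEquiv.ext fun g => ?_)⟩⟩, fun α hα => MulEquiv.ext fun g => ?_⟩
  · change α.1 (β.1 g) = β.1 (α.1 g)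
    rw [h.mul_apply_K α.2 β.2, h.mul_apply_K β.2 α.2, mul_assoc g, mul_assoc g,
      h.cen _ (h.d_mem α.2 g)]
  · rw [pow_two]
    change α (α g) = g
    rw [h.mul_apply_K hα hα, mul_assoc, (h.sq _).2 (h.d_mem hα g), mul_one]

theorem card_S [Finite S] [Fintype F] : Nat.card S = Nat.card h.hom.ker * Fintype.card F := by
  rw [← h.hom.ker.card_mul_index, index_ker, MonoidHom.range_eq_top.2 fun x => h.surj x.toAdd,
    card_top, Nat.card_congr Multiplicative.toAdd, Nat.card_eq_fintype_card (α := F)]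

theorem card_K {N : ℕ} [Fintype F] (hF : Fintype.card F = 2 ^ N) :
    Nat.card h.rho.ker = Nat.card h.hom.ker ^ N := by
  let : CommGroup h.hom.ker :=
    { (inferInstance : Group h.hom.ker) with
      mul_comm := fun a b => Subtype.ext (h.cen _ a.2 _) }
  have hA : ∀ a : Additive h.hom.ker, a + a = 0 := fun a =>
    Subtype.ext ((h.sq _).2 a.toMul.2)
  rw [Nat.card_congr (Additive.ofMul (α := h.hom.ker)), ← card_hom hF _ hA]
  have hX : ∀ (f : F →+ Additive h.hom.ker) (g : S), X (g * (f (X g)).toMul) = X g := fun f g => by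
    rw [h.mul, h.mem_ker.1 (f (X g)).toMul.2, add_zero]
  have hinv : ∀ f : F →+ Additive h.hom.ker,
      Function.Involutive fun g : S => g * ((f (X g)).toMul : S) := fun f g => by
    simp only [hX]
    rw [mul_assoc, (h.sq _).2 (f (X g)).toMul.2, mul_one]
  let Φ : (F →+ Additive h.hom.ker) → h.rho.ker := fun f =>
    ⟨{ (hinv f).toPerm _ with
      map_mul' := fun a b => by
        change a * b * ((f (X (a * b))).toMul : S) = a * (f (X a)).toMul * (b * (f (X b)).toMul)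
        rw [h.mul, map_add, toMul_add, coe_mul, mul_assoc a, mul_assoc a,
          ← mul_assoc b, ← h.cen _ (f (X a)).toMul.2 b, mul_assoc] }, h.mem_K.2 (hX f)⟩
  have hΦ : ∀ f g, (Φ f).1 g = g * (f (X g)).toMul := fun _ _ => rfl
  refine (Nat.card_congr (Equiv.ofBijective Φ ⟨fun f f' e => ?_, fun α => ?_⟩)).symm
  · ext x
    obtain ⟨g, rfl⟩ := h.surj x
    have h1 : (Φ f).1 g = (Φ f').1 g := by rw [e]
    rw [hΦ, hΦ] at h1
    exact mul_left_cancel h1
  · have hd : ∀ a b, (a * b)⁻¹ * α.1 (a * b) = a⁻¹ * α.1 a * (b⁻¹ * α.1 b) := fun a b => by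
      rw [map_mul, mul_inv_rev, mul_assoc, ← mul_assoc a⁻¹, ← mul_assoc, ← h.cen _ (h.d_mem α.2 a),
        mul_assoc]
    have hc : ∀ a b, X a = X b → a⁻¹ * α.1 a = b⁻¹ * α.1 b := fun a b e => by
      have h1 := h.inv_mul_eq_zero.2 e
      conv_rhs => rw [show b = a * (a⁻¹ * b) by group, hd, h.fix_of_mem_K α.2 h1, inv_mul_cancel, mul_one]
    refine ⟨AddMonoidHom.mk' (fun x => Additive.ofMul ⟨(Function.surjInv h.surj x)⁻¹ *
      α.1 (Function.surjInv h.surj x), h.d_mem α.2 _⟩) fun x y => Subtype.ext ?_,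
      Subtype.ext (MulEquiv.ext fun g => ?_)⟩
    · refine (hc _ _ ?_).trans (hd _ _)
      simp only [h.mul, Function.surjInv_eq]
    · rw [hΦ]
      change g * (_⁻¹ * α.1 _) = _
      rw [hc _ g (Function.surjInv_eq h.surj _), mul_inv_cancel_left]

theorem eq_one_of_scalar {γ : MulAut S} {c : F} (hγ : ∀ g, X (γ g) = c * X g) {k : ℕ}
    (hk : γ ^ 2 ^ k = 1) : c = 1 := by
  have h1 : ∀ (m : ℕ) (g : S), X ((γ ^ m) g) = c ^ m * X g := fun m => by
    induction m with
    | zero => intro g; simp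
    | succ m ih => intro g; rw [pow_succ', MulAut.mul_apply, hγ, ih]; ring
  obtain ⟨g, hg⟩ := h.surj 1
  have h2 := h1 (2 ^ k) g
  rw [hk, MulAut.one_apply, hg, mul_one] at h2
  exact eq_one_of_pow h2.symm

theorem main [Finite S] [Fintype F]
    (hup : ∀ α : MulAut S, ∃ (a : F) (φ : F ≃+* F), ∀ g, X (α g) = a * φ (X g))
    (hlo : ∀ a : F, a ≠ 0 → ∀ φ : F ≃+* F, ∃ α : MulAut S, ∀ g, X (α g) = a * φ (X g))
    {N k : ℕ} (hF : Fintype.card F = 2 ^ N) (hS : Nat.card S = 2 ^ k * 2 ^ N) :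
    IsElementaryAbelian 2 (pCore 2 (MulAut S)) ∧ Nat.card (pCore 2 (MulAut S)) = 2 ^ (k * N) ∧
      Nat.card (MulAut S) = 2 ^ (k * N) * (N * (2 ^ N - 1)) := by
  have : Fact (Nat.Prime 2) := ⟨Nat.prime_two⟩
  have hZ : Nat.card h.hom.ker = 2 ^ k := by
    have h1 := h.card_S
    rw [hS, hF] at h1
    exact (Nat.eq_of_mul_eq_mul_right (by positivity) h1).symm
  have hK : Nat.card h.rho.ker = 2 ^ (k * N) := by rw [h.card_K hF, hZ, pow_mul]
  obtain ⟨g1, hg1⟩ := h.surj 1
  have hne : ∀ (α : MulAut S) (a : F) (φ : F ≃+* F), (∀ g, X (α g) = a * φ (X g)) → a ≠ 0 := by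
    rintro α a φ e rfl
    have h1 := e g1
    rw [zero_mul, h.map_eq_zero, hg1] at h1
    exact one_ne_zero h1
  have hO : pCore 2 (MulAut S) = h.rho.ker := by
    refine le_antisymm (fun α hα => ?_) (H1.le_pCore (IsPGroup.of_card hK))
    have hp : ∀ γ ∈ pCore 2 (MulAut S), ∃ k : ℕ, γ ^ 2 ^ k = 1 := fun γ hγ => by
      obtain ⟨k, hk⟩ := H1.isPGroup_pCore (p := 2) (G := MulAut S) ⟨γ, hγ⟩
      exact ⟨k, congrArg Subtype.val hk⟩
    obtain ⟨a, φ, e⟩ := hup α
    have ha := hne α a φ e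
    have hφ : ∀ b, φ b = b := fun b => by
      by_cases hb : b = 0
      · rw [hb, map_zero]
      obtain ⟨β, hβ⟩ := hlo b hb (RingEquiv.refl F)
      have hm : α * (β * α⁻¹ * β⁻¹) ∈ pCore 2 (MulAut S) :=
        mul_mem hα ((pCore_normal 2 _).conj_mem _ (inv_mem hα) β)
      obtain ⟨k, hk⟩ := hp _ hm
      have h1 : φ b / b = 1 := h.eq_one_of_scalar (fun g => by
        have h2 := hβ (β⁻¹ g)
        have h3 := e (α⁻¹ (β⁻¹ g))
        rw [MulAut.apply_inv_self] at h2 h3
        simp only [MulAut.mul_apply, RingEquiv.refl_apply] at h2 ⊢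
        rw [e, hβ, RingEquiv.refl_apply, map_mul, h2, h3]
        field_simp) hk
      rwa [div_eq_one_iff_eq hb] at h1
    obtain ⟨k, hk⟩ := hp α hα
    have h1 : a = 1 := h.eq_one_of_scalar (fun g => by rw [e, hφ]) hk
    exact h.mem_K.2 fun g => by rw [e, hφ, h1, one_mul]
  refine ⟨hO ▸ h.ea_K, hO ▸ hK, ?_⟩
  rw [← h.rho.ker.card_mul_index, index_ker, hK]
  congr 1
  choose A hA using fun p : (F ≃+* F) × Fˣ => hlo p.2 p.2.ne_zero p.1
  obtain ⟨N', hN, hc⟩ := H40.FieldAut.card_aut (F := F)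
  obtain rfl : N' = N := Nat.pow_right_injective le_rfl (hN.symm.trans hF)
  rw [← Nat.card_congr (Equiv.ofBijective (fun p => (⟨h.rho (A p), A p, rfl⟩ : h.rho.range))
    ⟨?_, ?_⟩), Nat.card_prod, hc, Nat.card_units, Nat.card_eq_fintype_card (α := F), hF]
  · rintro ⟨φ, a⟩ ⟨ψ, b⟩ e
    have h1 : ∀ x, (a : F) * φ x = b * ψ x := fun x => by
      obtain ⟨g, rfl⟩ := h.surj x
      have h2 : h.rho (A (φ, a)) = h.rho (A (ψ, b)) := congrArg Subtype.val e
      rw [← hA (φ, a), ← hA (ψ, b), ← h.rho_apply, ← h.rho_apply, h2]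
    obtain rfl : a = b := Units.ext (by simpa using h1 1)
    congr 1
    exact RingEquiv.ext fun x => mul_left_cancel₀ a.ne_zero (h1 x)
  · rintro ⟨_, α, rfl⟩
    obtain ⟨a, φ, e⟩ := hup α
    refine ⟨(φ, Units.mk0 a (hne α a φ e)), Subtype.ext (Equiv.ext fun x => ?_)⟩
    obtain ⟨g, rfl⟩ := h.surj x
    change h.rho _ _ = h.rho _ _
    rw [h.rho_apply, h.rho_apply, hA, e]
    rfl

theorem of_equiv {S' : Type*} [Group S'] (e : S' ≃* S) : SC fun g => X (e g) where
  mul g g' := by rw [map_mul, h.mul]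
  surj := h.surj.comp e.surjective
  cen z hz g := e.injective (by rw [map_mul, map_mul, h.cen _ hz])
  sq g := by rw [← h.sq, ← map_mul, e.map_eq_one_iff]
  root z hz := by
    obtain ⟨g, hg⟩ := h.root _ hz
    exact ⟨e.symm g, e.injective (by rw [map_mul, e.apply_symm_apply, hg])⟩

theorem main' [Finite S] [Fintype F]
    (hup : ∀ α : MulAut S, ∃ (a : F) (φ : F ≃+* F), ∀ g, X (α g) = a * φ (X g))
    (hlo : ∀ a : F, a ≠ 0 → ∀ φ : F ≃+* F, ∃ α : MulAut S, ∀ g, X (α g) = a * φ (X g))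
    {N k : ℕ} (hF : Fintype.card F = 2 ^ N) (hS : Nat.card S = 2 ^ k * 2 ^ N)
    {S' : Type*} [Group S'] [Finite S'] (e : S' ≃* S) :
    IsElementaryAbelian 2 (pCore 2 (MulAut S')) ∧ Nat.card (pCore 2 (MulAut S')) = 2 ^ (k * N) ∧
      Nat.card (MulAut S') = 2 ^ (k * N) * (N * (2 ^ N - 1)) := by
  refine (h.of_equiv e).main (fun α => ?_) (fun a ha φ => ?_) hF (by rw [Nat.card_congr e.toEquiv, hS])
  · obtain ⟨a, φ, h1⟩ := hup (MulAut.congr e α)
    exact ⟨a, φ, fun g => by simpa using h1 (e g)⟩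
  · obtain ⟨α, h1⟩ := hlo a ha φ
    exact ⟨MulAut.congr e.symm α, fun g => by simpa using h1 (e g)⟩

end SC

end H13.TG.AS
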