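import Mathlib
import Cfsg.Agent.Lib.PGroup.Rank
import Cfsg.Agent.Lib.Core.GrpBasic

/-!
# Soft subgroups of `p`-groups (Héthelyi)
-/

set_option autoImplicit false

namespace H13.TG

open Subgroup
open scoped commutatorElement

universe u

variable {G : Type u} [Group G] {p : ℕ}

/-- A self-centralising abelian subgroup of index `p` in its normaliser. -/
structure Soft (p : ℕ) (E : Subgroup G) : Prop where
  comm : ∀ a ∈ E, ∀ b ∈ E, a * b = b * a
  cent : centralizer (E : Set G) ≤ E
  idx : E.relIndex (normalizer (E : Set G)) = p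

theorem index_centralizer_le' [Finite G] {F : Subgroup G} (hF : F ≤ center G) {x : G}
    (hc : ∀ g : G, ⁅g, x⁆ ∈ F) : (centralizer ({x} : Set G)).index ≤ Nat.card F := by
  let f : G →* G := MonoidHom.mk' (fun g => ⁅g, x⁆) fun a b => by
    rw [H5.commutator_mul_left_of_commute (mem_center_iff.1 (hF (hc b)) a)]
    exact (mem_center_iff.1 (hF (hc b)) _).symm
  have : f.ker = centralizer ({x} : Set G) := by
    ext g
    rw [MonoidHom.mem_ker, mem_centralizer_singleton_iff]
    exact commutatorElement_eq_one_iff_mul_comm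
  rw [← this, index_ker]
  exact card_le_of_le (by rintro _ ⟨g, rfl⟩; exact hc g)

theorem normal_inf_centralizer (K : Subgroup G) [hK : K.Normal] :
    (K ⊓ centralizer (K : Set G)).Normal := inferInstance

/-- A subgroup strictly between `A` and `B`, where `|B : A| = p`, does not exist. -/
theorem eq_of_relIndex_prime [Finite G] (hp : p.Prime) {A B C : Subgroup G} (h : A.relIndex B = p) (h1 : A ≤ C)
    (h2 : C ≤ B) (h3 : ¬ C ≤ A) : C = B := by
  have e := relIndex_mul_relIndex A C B h1 h2
  rw [h] at e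
  rcases (Nat.dvd_prime hp).1 ⟨_, e.symm⟩ with h4 | h4
  · exact absurd (relIndex_eq_one.1 h4) h3
  · rw [h4] at e
    have : C.relIndex B = 1 := Nat.eq_of_mul_eq_mul_left hp.pos (by rw [e, mul_one])
    exact le_antisymm h2 (relIndex_eq_one.1 this)

theorem relIndex_eq_prime_of_le [Finite G] [hp : Fact p.Prime] (hG : IsPGroup p G) {A B : Subgroup G}
    (h : A.relIndex B ≤ p) (h3 : ¬ B ≤ A) : A.relIndex B = p := by
  obtain ⟨n, hn⟩ := (hG.to_subgroup B).index (A.subgroupOf B)
  have hn' : A.relIndex B = p ^ n := hn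
  rw [hn'] at h ⊢
  have h1 : n ≤ 1 := (Nat.pow_le_pow_iff_right hp.out.one_lt).1 (by rwa [pow_one])
  have h0 : n ≠ 0 := fun e => h3 (relIndex_eq_one.1 (by rw [hn', e, pow_zero]))
  rw [show n = 1 by omega, pow_one]

namespace Soft

variable {E : Subgroup G}

theorem restrict (h : Soft p E) {T : Subgroup G} (hT : normalizer (E : Set G) ≤ T) : Soft p (E.subgroupOf T) := by
  have hET : E ≤ T := le_normalizer.trans hT
  refine ⟨fun a ha b hb => Subtype.ext (h.comm _ ha _ hb), fun x hx => h.cent fun e he => ?_, ?_⟩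
  · exact congrArg Subtype.val (hx ⟨e, hET he⟩ he)
  · rw [← subgroupOf_normalizer_eq hET, relIndex_subgroupOf hT, h.idx]

theorem normalizer_le [Finite G] [hp : Fact p.Prime] (hG : IsPGroup p G) (h : Soft p E) {K : Subgroup G}
    (hK : E < K) : normalizer (E : Set G) ≤ K := by
  have := H5.lt_inf_normalizer (hG.to_subgroup K) hK
  rw [← eq_of_relIndex_prime hp.out h.idx this.le inf_le_right this.not_ge]
  exact inf_le_left

theorem base [Finite G] [hp : Fact p.Prime] (hG : IsPGroup p G) (h : Soft p E)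
    [hN : (normalizer (E : Set G)).Normal] (hne : normalizer (E : Set G) ≠ ⊤) :
    (normalizer (E : Set G)).index = p := by
  set N := normalizer (E : Set G) with hNdef
  set Z := N ⊓ centralizer (N : Set G) with hZ
  haveI : Z.Normal := normal_inf_centralizer N
  have hEN : E ≤ N := le_normalizer
  have hZE : Z ≤ E := fun z hz => h.cent fun e he => hz.2 e (hEN he)
  have hEnn : ¬ E.Normal := fun e => hne (normalizer_eq_top_iff.2 e)
  obtain ⟨y, -, hy⟩ := SetLike.exists_of_lt (lt_top_iff_ne_top.2 hne)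
  set E' := E.map (MulAut.conj y).toMonoidHom with hE'
  have hE'N : E' ≤ N := by
    rintro _ ⟨e, he, rfl⟩
    exact hN.conj_mem e (hEN he) y
  have hcard : Nat.card E' = Nat.card E := card_map_of_injective (MulAut.conj y).injective
  have hE'E : ¬ E' ≤ E := fun e => hy (mem_normalizer_iff_map_conj_eq.2 (eq_of_le_of_card_ge e hcard.ge))
  have hsup : E ⊔ E' = N := eq_of_relIndex_prime hp.out h.idx le_sup_left (sup_le hEN hE'N)
    fun e => hE'E (le_sup_right.trans e)
  have hinf : E' ⊓ E ≤ Z := fun x hx => by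
    refine ⟨hEN hx.2, ?_⟩
    have : N ≤ centralizer ({x} : Set G) := by
      rw [← hsup]
      refine sup_le (fun e he => mem_centralizer_singleton_iff.2 (h.comm e he x hx.2)) ?_
      rintro _ ⟨e, he, rfl⟩
      obtain ⟨f, hf, rfl⟩ := hx.1
      rw [mem_centralizer_singleton_iff, ← map_mul, ← map_mul, h.comm e he f hf]
    exact fun n hn => mem_centralizer_singleton_iff.1 (this hn)
  have hE'idx : E'.relIndex N = p := by
    have a := H1.card_mul_relIndex_of_le hE'N
    have b := H1.card_mul_relIndex_of_le hEN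
    rw [hcard, ← b, h.idx] at a
    exact Nat.eq_of_mul_eq_mul_left Nat.card_pos a
  have hZidx : Z.relIndex E = p := by
    refine relIndex_eq_prime_of_le hG ?_ fun e => hEnn (le_antisymm hZE e ▸ inferInstance)
    calc Z.relIndex E ≤ (E' ⊓ E).relIndex E := relIndex_le_of_le_left hinf FiniteIndex.index_ne_zero
      _ = E'.relIndex E := inf_relIndex_right _ _
      _ ≤ E'.relIndex N := relIndex_le_of_le_right hEN FiniteIndex.index_ne_zero
      _ = p := hE'idx
  have hNZ : ¬ N ≤ Z := fun e => hEnn (le_antisymm hZE (hEN.trans e) ▸ inferInstance)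
  obtain ⟨x, hxN, hxZ, hxp, hxc⟩ := H5.exists_step hG Z N hNZ
  set M := Z ⊔ zpowers x with hM
  haveI : M.Normal := H5.normal_sup_zpowers hxc
  have hMidx : Z.relIndex M = p := H5.relIndex_sup_zpowers hp.out (H5.mem_normalizer_of_commutator_mem hxc) hxZ hxp
  have hMN : M ≤ N := sup_le inf_le_left (zpowers_le.2 hxN)
  have hMidx' : M.relIndex N = p := by
    have a := relIndex_mul_relIndex Z M N le_sup_left hMN
    rw [← relIndex_mul_relIndex Z E N hZE hEN, hZidx, h.idx, hMidx] at a
    exact Nat.eq_of_mul_eq_mul_left hp.out.pos a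
  have hNM : ¬ N ≤ M := fun e => hp.out.one_lt.ne' (hMidx'.symm.trans (relIndex_eq_one.2 e))
  obtain ⟨x', hx'N, hx'M, -, hx'c⟩ := H5.exists_step hG M N hNM
  have hN' : M ⊔ zpowers x' = N := eq_of_relIndex_prime hp.out hMidx' le_sup_left
    (sup_le hMN (zpowers_le.2 hx'N)) fun e => hx'M (e (mem_sup_right (mem_zpowers _)))
  have hNc : ⁅N, (⊤ : Subgroup G)⁆ ≤ M := hN' ▸ H5.commutator_sup_zpowers_le hx'c
  have hEZ : ¬ E ≤ Z := fun e => hEnn (le_antisymm hZE e ▸ inferInstance)
  obtain ⟨a, ha, haZ⟩ := SetLike.not_le_iff_exists.1 hEZ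
  have hEa : Z ⊔ zpowers a = E := eq_of_relIndex_prime hp.out hZidx le_sup_left
    (sup_le hZE (zpowers_le.2 ha)) fun e => haZ (e (mem_sup_right (mem_zpowers _)))
  have h1 := index_centralizer_le' (G := G ⧸ Z) (F := M.map (QuotientGroup.mk' Z)) (x := (a : G ⧸ Z)) (by
    rintro _ ⟨m, hm, rfl⟩
    rw [mem_center_iff]
    intro g
    obtain ⟨g, rfl⟩ := QuotientGroup.mk_surjective g
    symm
    rw [← commutatorElement_eq_one_iff_mul_comm]
    exact (QuotientGroup.eq_one_iff ⁅m, g⁆).2
      (H5.commutator_sup_zpowers_le hxc (commutator_mem_commutator hm (mem_top g)))) (fun g => by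
    obtain ⟨g, rfl⟩ := QuotientGroup.mk_surjective g
    refine ⟨⁅g, a⁆, ?_, rfl⟩
    rw [← commutatorElement_inv]
    exact inv_mem (hNc (commutator_mem_commutator (hEN ha) (mem_top g))))
  rw [H1.card_map_mk'_eq_relIndex, hMidx, ← index_comap_of_surjective _ (QuotientGroup.mk'_surjective Z)] at h1
  rw [← relIndex_top_right]
  refine relIndex_eq_prime_of_le hG ?_ fun e => hne (top_le_iff.1 e)
  rw [relIndex_top_right]
  refine le_trans (index_antitone fun g hg => ?_) h1
  have hga : ⁅g, a⁆ ∈ Z := (QuotientGroup.eq_one_iff _).1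
    (commutatorElement_eq_one_iff_mul_comm.2 (mem_centralizer_singleton_iff.1 hg))
  apply mem_normalizer_fintype
  intro e he
  rw [← hEa] at he
  obtain ⟨z, hz, i, rfl⟩ := (H5.mem_sup_zpowers_iff_nat (le_normalizer_of_normal (K := ⊤) (mem_top a))).1 he
  have : g * (z * a ^ i) * g⁻¹ = g * z * g⁻¹ * (⁅g, a⁆ * a) ^ i := by
    rw [← H5.conj_eq_commutator_mul, conj_pow]; group
  rw [this]
  exact mul_mem (hZE (Normal.conj_mem inferInstance z hz g)) (pow_mem (mul_mem (hZE hga) ha) i)

theorem second [Finite G] [hp : Fact p.Prime] (hG : IsPGroup p G) (h : Soft p E)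
    (hne : normalizer (E : Set G) ≠ ⊤) :
    (normalizer (E : Set G)).relIndex (normalizer ((normalizer (E : Set G) : Subgroup G) : Set G)) = p := by
  set N := normalizer (E : Set G)
  set T := normalizer (N : Set G)
  have hNT : N ≤ T := le_normalizer
  have e : normalizer (E.subgroupOf T : Set T) = N.subgroupOf T :=
    (subgroupOf_normalizer_eq (le_normalizer.trans hNT)).symm
  haveI : (normalizer (E.subgroupOf T : Set T)).Normal := e ▸ normal_in_normalizer
  have := (h.restrict hNT).base (hG.to_subgroup T) (by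
    rw [e, Ne, subgroupOf_eq_top]
    obtain ⟨x, hx, -, hx'⟩ := H5.exists_mem_normalizer_not_mem hG hne
    exact fun e => hx (e hx'))
  rwa [e] at this

end Soft

theorem relIndex_map_mk' {Z A B : Subgroup G} [Z.Normal] (hA : Z ≤ A) (hB : Z ≤ B) :
    (A.map (QuotientGroup.mk' Z)).relIndex (B.map (QuotientGroup.mk' Z)) = A.relIndex B := by
  rw [relIndex_map_map, QuotientGroup.ker_mk', sup_of_le_left hA, sup_of_le_left hB]

theorem normalizer_map_mk' {Z A : Subgroup G} [Z.Normal] (hA : Z ≤ A) :
    normalizer (A.map (QuotientGroup.mk' Z) : Set (G ⧸ Z)) = (normalizer (A : Set G)).map (QuotientGroup.mk' Z) := by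
  have := comap_normalizer_eq_of_surjective (A.map (QuotientGroup.mk' Z)) (QuotientGroup.mk'_surjective Z)
  rw [comap_map_eq, QuotientGroup.ker_mk', sup_of_le_left hA] at this
  rw [← this, map_comap_eq_self_of_surjective (QuotientGroup.mk'_surjective Z)]

theorem soft_main [hp : Fact p.Prime] (i : ℕ) : ∀ (G : Type u) [Group G] [Finite G], IsPGroup p G →
    ∀ E K : Subgroup G, Soft p E → K.Normal → E ≤ K → K ≠ ⊤ → E.relIndex K = p ^ i →
      K.index = p ∧ K.lowerCentralSeries (i + 1) = ⊥ := by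
  induction i using Nat.strong_induction_on with
  | _ i ih =>
  intro G _ _ hG E K h hK hEK hne hi
  rcases i with _ | i
  · have : K = E := le_antisymm (relIndex_eq_one.1 (by simpa using hi)) hEK
    subst this
    refine ⟨?_, ?_⟩
    · have := h.idx
      rwa [normalizer_eq_top, relIndex_top_right] at this
    · show ⁅K, K⁆ = ⊥
      rw [commutator_eq_bot_iff_le_centralizer]
      exact fun a ha b hb => h.comm b hb a ha
  set Z := K ⊓ centralizer (K : Set G) with hZ
  haveI : Z.Normal := normal_inf_centralizer K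
  have hZE : Z ≤ E := fun z hz => h.cent fun e he => hz.2 e (hEK he)
  have hKE : ¬ K ≤ E := fun e => by
    rw [relIndex_eq_one.2 e] at hi
    exact (Nat.one_lt_pow (Nat.succ_ne_zero i) hp.out.one_lt).ne hi
  obtain ⟨x, hxK, hxZ, -, hxc⟩ := H5.exists_step hG Z K fun e => hKE (e.trans hZE)
  haveI : (Z ⊔ zpowers x).Normal := H5.normal_sup_zpowers hxc
  have hxE : x ∉ E := fun hxE => by
    set L := centralizer ((Z ⊔ zpowers x : Subgroup G) : Set G) ⊓ K with hL
    have hEL : E ≤ L := fun e he =>
      ⟨fun y hy => h.comm y (sup_le hZE (zpowers_le.2 hxE) hy) e he, hEK he⟩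
    have hKL : ¬ K ≤ L := fun e => hxZ ⟨hxK, fun k hk =>
      ((e hk).1 x (mem_sup_right (mem_zpowers x))).symm⟩
    obtain ⟨j, hj⟩ := (hG.to_subgroup L).index (E.subgroupOf L)
    obtain ⟨k, hk⟩ := (hG.to_subgroup K).index (L.subgroupOf K)
    have hk0 : k ≠ 0 := fun e => hKL (relIndex_eq_one.1 (by rw [relIndex, hk, e, pow_zero]))
    have e1 := relIndex_mul_relIndex E L K hEL inf_le_right
    rw [hi, relIndex, relIndex, hj, hk, ← pow_add] at e1
    have e2 := Nat.pow_right_injective hp.out.two_le e1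
    have h1 := (ih j (by omega) G hG E L h inferInstance hEL (fun e => hKL (e ▸ le_top)) hj).1
    rw [← relIndex_top_right] at h1
    exact hne (eq_of_relIndex_prime hp.out h1 inf_le_right le_top hKL)
  set N := normalizer (E : Set G) with hN
  have hxN : x ∈ N := H5.mem_normalizer_of_commutator_mem fun g => hZE (hxc g)
  have hNx : E ⊔ zpowers x = N := eq_of_relIndex_prime hp.out h.idx le_sup_left
    (sup_le le_normalizer (zpowers_le.2 hxN)) fun e => hxE (e (mem_sup_right (mem_zpowers _)))
  have hNK : N ≤ K := hNx ▸ sup_le hEK (zpowers_le.2 hxK)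
  have hZN : Z ≤ N := hZE.trans le_normalizer
  have hsoft : Soft p (N.map (QuotientGroup.mk' Z)) := by
    refine ⟨?_, ?_, ?_⟩
    · have hx : ∀ g : G ⧸ Z, Commute (x : G ⧸ Z) g := fun g => by
        obtain ⟨g, rfl⟩ := QuotientGroup.mk_surjective g
        exact commutatorElement_eq_one_iff_mul_comm.1 ((QuotientGroup.eq_one_iff ⁅x, g⁆).2 (hxc g))
      rintro _ ⟨a, ha, rfl⟩ _ ⟨b, hb, rfl⟩
      rw [← hNx] at ha hb
      obtain ⟨a, ha', s, rfl⟩ := (H5.mem_sup_zpowers_iff_nat hxN).1 ha
      obtain ⟨b, hb', t, rfl⟩ := (H5.mem_sup_zpowers_iff_nat hxN).1 hb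
      have hab : Commute (a : G ⧸ Z) (b : G ⧸ Z) := by
        show (a : G ⧸ Z) * b = b * a
        rw [← QuotientGroup.mk_mul, h.comm a ha' b hb', QuotientGroup.mk_mul]
      simp only [map_mul, map_pow, QuotientGroup.mk'_apply]
      exact ((hab.mul_right ((hx _).pow_left t).symm).mul_left ((hx _).pow_left s)).eq
    · intro g hg
      obtain ⟨g, rfl⟩ := QuotientGroup.mk_surjective g
      refine ⟨g, mem_normalizer_fintype fun e he => ?_, rfl⟩
      rw [H5.conj_eq_commutator_mul]
      refine mul_mem (hZE ((QuotientGroup.eq_one_iff _).1 ?_)) he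
      exact commutatorElement_eq_one_iff_mul_comm.2 (hg _ ⟨e, le_normalizer he, rfl⟩).symm
    · rw [normalizer_map_mk' hZN, relIndex_map_mk' hZN (hZN.trans le_normalizer)]
      exact h.second hG fun e => hne (top_le_iff.1 (e.ge.trans hNK))
  have hZK : Z ≤ K := inf_le_left
  obtain ⟨h1, h2⟩ := ih i (Nat.lt_succ_self i) (G ⧸ Z) (hG.to_quotient Z) _ (K.map (QuotientGroup.mk' Z)) hsoft
    (hK.map _ (QuotientGroup.mk'_surjective Z)) (map_mono hNK) (fun e => hne (by
      have := congrArg (comap (QuotientGroup.mk' Z)) e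
      rwa [comap_map_eq, QuotientGroup.ker_mk', sup_of_le_left hZK, comap_top] at this)) (by
      rw [relIndex_map_mk' hZN hZK]
      have e1 := relIndex_mul_relIndex E N K le_normalizer hNK
      rw [hi, h.idx, pow_succ'] at e1
      exact Nat.eq_of_mul_eq_mul_left hp.out.pos e1)
  refine ⟨?_, ?_⟩
  · rwa [index_map_eq _ (QuotientGroup.mk'_surjective Z) (by rwa [QuotientGroup.ker_mk'])] at h1
  · rw [← map_lowerCentralSeries, Subgroup.map_eq_bot_iff, QuotientGroup.ker_mk'] at h2
    rw [Subgroup.lowerCentralSeries_succ, commutator_eq_bot_iff_le_centralizer]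
    exact h2.trans inf_le_right

namespace Soft

variable {E : Subgroup G}

theorem over' [Finite G] [hp : Fact p.Prime] (hG : IsPGroup p G) (h : Soft p E) {K : Subgroup G} (hEK : E ≤ K)
    (hne : K ≠ ⊤) {i : ℕ} (hi : E.relIndex K = p ^ i) :
    K.relIndex (normalizer (K : Set G)) = p ∧ K.lowerCentralSeries (i + 1) = ⊥ := by
  set T := normalizer (K : Set G)
  have hKT : K ≤ T := le_normalizer
  have hNT : normalizer (E : Set G) ≤ T := by
    rcases hEK.eq_or_lt with rfl | hlt
    · exact le_rfl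
    · exact (h.normalizer_le hG hlt).trans hKT
  obtain ⟨h1, h2⟩ := soft_main i T (hG.to_subgroup T) _ (K.subgroupOf T) (h.restrict hNT) normal_in_normalizer
    (comap_mono hEK) (by
      rw [Ne, subgroupOf_eq_top]
      obtain ⟨x, hx, -, hx'⟩ := H5.exists_mem_normalizer_not_mem hG hne
      exact fun e => hx (e hx')) (by rw [relIndex_subgroupOf hKT, hi])
  refine ⟨h1, ?_⟩
  have := congrArg (map T.subtype) h2
  rwa [map_lowerCentralSeries, map_subgroupOf_eq_of_le hKT, Subgroup.map_bot] at this

theorem over_idx [Finite G] [hp : Fact p.Prime] (hG : IsPGroup p G) (h : Soft p E) {K : Subgroup G} (hEK : E ≤ K)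
    (hne : K ≠ ⊤) : K.relIndex (normalizer (K : Set G)) = p := by
  obtain ⟨i, hi⟩ := (hG.to_subgroup K).index (E.subgroupOf K)
  exact (h.over' hG hEK hne hi).1

theorem chain [Finite G] [hp : Fact p.Prime] (hG : IsPGroup p G) (h : Soft p E) {K L : Subgroup G} (hK : E ≤ K)
    (hL : E ≤ L) : K ≤ L ∨ L ≤ K := by
  by_contra hn
  rw [not_or] at hn
  have h1 : K ⊓ L < K := lt_of_le_of_ne inf_le_left fun e => hn.1 (e ▸ inf_le_right)
  have h2 : K ⊓ L < L := lt_of_le_of_ne inf_le_right fun e => hn.2 (e ▸ inf_le_left)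
  have h3 := h.over_idx hG (le_inf hK hL) (ne_top_of_lt h1)
  have a := H5.lt_inf_normalizer (hG.to_subgroup K) h1
  have b := H5.lt_inf_normalizer (hG.to_subgroup L) h2
  have a' := eq_of_relIndex_prime hp.out h3 a.le inf_le_right a.not_ge
  have b' := eq_of_relIndex_prime hp.out h3 b.le inf_le_right b.not_ge
  apply a.not_ge
  rw [a']
  exact le_inf (a'.ge.trans inf_le_left) (b'.ge.trans inf_le_left)

theorem upper_le [Finite G] [hp : Fact p.Prime] (hG : IsPGroup p G) (h : Soft p E) {K : Subgroup G} (hEK : E ≤ K)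
    (hne : K ≠ ⊤) (j : ℕ) :
    E.relIndex (E ⊔ (Subgroup.upperCentralSeries K (j + 1)).map K.subtype) ≤ p ^ j := by
  induction j with
  | zero =>
    rw [pow_zero, relIndex_eq_one.2]
    refine sup_le le_rfl ?_
    rintro _ ⟨x, hx, rfl⟩
    rw [zero_add, Subgroup.upperCentralSeries_one] at hx
    exact h.cent fun e he => congrArg Subtype.val (mem_center_iff.1 hx ⟨e, hEK he⟩)
  | succ j ih =>
    set L := E ⊔ (Subgroup.upperCentralSeries K (j + 1)).map K.subtype with hL
    have hLK : L ≤ K := sup_le hEK (map_subtype_le _)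
    have h1 := h.over_idx hG (K := L) le_sup_left fun e => hne (top_le_iff.1 (e.ge.trans hLK))
    have h2 : E ⊔ (Subgroup.upperCentralSeries K (j + 1 + 1)).map K.subtype ≤ normalizer (L : Set G) := by
      refine sup_le (le_sup_left.trans le_normalizer) ?_
      rintro _ ⟨x, hx, rfl⟩
      refine mem_normalizer_fintype fun l hl => ?_
      rw [H5.conj_eq_commutator_mul]
      exact mul_mem (mem_sup_right ⟨_, Subgroup.mem_upperCentralSeries_succ_iff.1 hx ⟨l, hLK hl⟩, rfl⟩) hl
    calc _ ≤ E.relIndex (normalizer (L : Set G)) := relIndex_le_of_le_right h2 FiniteIndex.index_ne_zero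
      _ = E.relIndex L * p := by rw [← relIndex_mul_relIndex E L _ le_sup_left le_normalizer, h1]
      _ ≤ p ^ (j + 1) := by rw [pow_succ]; exact Nat.mul_le_mul_right _ ih

theorem nilpotencyClass_eq [Finite G] [hp : Fact p.Prime] (hG : IsPGroup p G) (h : Soft p E) {K : Subgroup G}
    [Group.IsNilpotent K] (hEK : E ≤ K) (hne : K ≠ ⊤) {i : ℕ} (hi : E.relIndex K = p ^ i) :
    Group.nilpotencyClass K = i + 1 := by
  apply le_antisymm
  · rw [← Subgroup.lowerCentralSeries_eq_bot_iff_nilpotencyClass_le,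
      ← map_eq_bot_iff_of_injective _ K.subtype_injective, top_subtype_lowerCentralSeries]
    exact (h.over' hG hEK hne hi).2
  · have ht := Subgroup.upperCentralSeries_nilpotencyClass (G := K)
    rcases hc : Group.nilpotencyClass K with _ | j
    · exfalso
      rw [hc, Subgroup.upperCentralSeries_zero] at ht
      refine hne (top_le_iff.1 fun g _ => hEK (h.cent fun e he => ?_))
      have : (⟨e, hEK he⟩ : K) ∈ (⊥ : Subgroup K) := ht ▸ mem_top _
      rw [show e = 1 from congrArg Subtype.val (mem_bot.1 this)]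
      simp
    · have := h.upper_le hG hEK hne j
      rw [← hc, ht, ← MonoidHom.range_eq_map, range_subtype, sup_of_le_right hEK, hi] at this
      exact Nat.succ_le_succ ((Nat.pow_le_pow_iff_right hp.out.one_lt).1 this)

end Soft

end H13.TG
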